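import Groth.Agent.Lib.Ample.GenLocusPull
import Groth.Agent.Lib.Ample.Functorial
import Groth.Agent.Lib.Ample.Product
import Groth.Agent.Lib.Ample.RelAmple
import Groth.Agent.Lib.Ample.ProjAmple
import Groth.Agent.Lib.Chow.Prod
import Groth.Agent.Lib.Snapper.Positive
import Groth.Agent.Lib.QCoh.Support
import Groth.Prelude.Def_KRR
import Mathlib.AlgebraicGeometry.Morphisms.UniversallyClosed

/-!
# Maps from connected proper schemes along which an ample module becomes trivial are constant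
-/

set_option autoImplicit false
set_option backward.isDefEq.respectTransparency false
set_option linter.style.haveILetI false

universe u

open CategoryTheory CategoryTheory.Limits AlgebraicGeometry TopologicalSpace Polynomial Opposite

noncomputable section

namespace GrothLib.ConstFib9

/-- Global functions on a connected universally closed scheme over a field vanish nowhere or everywhere. -/
theorem basicOpen_bot_or_top {k : Type u} [Field k] {Z : Scheme.{u}} (t : Z ⟶ Spec (CommRingCat.of k))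
    [UniversallyClosed t] [PreconnectedSpace Z] (a : Γ(Z, ⊤)) :
    Z.basicOpen a = ⊥ ∨ Z.basicOpen a = ⊤ := by
  letI : Algebra k Γ(Z, ⊤) := ((Scheme.ΓSpecIso (CommRingCat.of k)).inv ≫ t.appTop).hom.toAlgebra
  have hint : IsIntegral k a :=
    RingHom.IsIntegral.trans _ _
      (RingHom.isIntegral_of_surjective _ (ConcreteCategory.bijective_of_isIso (Scheme.ΓSpecIso _).inv).2)
      (isIntegral_appTop_of_universallyClosed t) a
  obtain ⟨P, hP, hroot⟩ := hint
  obtain ⟨q, hPq, hq⟩ := exists_eq_pow_rootMultiplicity_mul_and_not_dvd P hP.ne_zero 0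
  rw [map_zero, sub_zero] at hPq hq
  have hq0 : q.coeff 0 ≠ 0 := fun h => hq (X_dvd_iff.2 h)
  have h0 : a ^ P.rootMultiplicity 0 * aeval a q = 0 := by
    have h := hroot
    rw [← aeval_def, hPq, map_mul, map_pow, aeval_X] at h
    exact h
  have hcl : IsClosed (Z.basicOpen a : Set Z) := by
    have e : (Z.basicOpen a : Set Z) = (Z.basicOpen (aeval a q) : Set Z)ᶜ := by
      ext z
      let ev := (Z.evaluation ⊤ z trivial).hom
      rw [Set.mem_compl_iff, SetLike.mem_coe, SetLike.mem_coe,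
        ← Scheme.evaluation_ne_zero_iff_mem_basicOpen (U := ⊤) Z z trivial a,
        ← Scheme.evaluation_ne_zero_iff_mem_basicOpen (U := ⊤) Z z trivial (aeval a q), not_not]
      refine ⟨fun hz => ?_, fun hz hza => ?_⟩
      · have h1 : ev a ^ P.rootMultiplicity 0 * ev (aeval a q) = 0 := by
          rw [← map_pow, ← map_mul, h0, map_zero]
        exact (mul_eq_zero.1 h1).resolve_left (pow_ne_zero _ hz)
      · have h2 : ev (aeval a q) = (ev.comp (algebraMap k Γ(Z, ⊤))) (q.coeff 0) := by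
          rw [aeval_def, hom_eval₂]
          exact (congrArg (fun r => eval₂ _ r q) (show ev a = 0 from hza)).trans (eval₂_at_zero _)
        exact hq0 ((map_eq_zero _).1 (h2.symm.trans hz))
    rw [e]
    exact (Z.basicOpen _).isOpen.isClosed_compl
  rcases isClopen_iff.1 (⟨hcl, (Z.basicOpen a).isOpen⟩ : IsClopen (Z.basicOpen a : Set Z)) with h | h
  · exact Or.inl (Opens.ext h)
  · exact Or.inr (Opens.ext h)

variable {Z : Scheme.{u}}

/-- The nonvanishing locus of an endomorphism of the structure sheaf. -/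
theorem genLocus_end (τ : Coh.structureModule Z ⟶ Coh.structureModule Z) :
    CohB1.genLocus (Coh.structureModule Z) τ = Z.basicOpen (show Γ(Z, ⊤) from τ.app ⊤ (1 : Γ(Z, ⊤))) := by
  let a : Γ(Z, ⊤) := τ.app ⊤ (1 : Γ(Z, ⊤))
  have happ : ∀ (U : Z.Opens) (m : Γ(Z, U)),
      (show Γ(Z, U) from τ.app U m) = m * Z.presheaf.map (homOfLE le_top).op a := fun U m => by
    have e1 : τ.app U ((1 : Γ(Z, U)) : Γ(Coh.structureModule Z, U)) =
        (Z.presheaf.map (homOfLE le_top).op a : Γ(Z, U)) := by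
      have e := congr($(τ.mapPresheaf.naturality (homOfLE (le_top (a := U))).op) (1 : Γ(Z, ⊤)))
      refine Eq.trans ?_ e
      exact congrArg (τ.app U) (map_one (Z.presheaf.map (homOfLE (le_top (a := U))).op).hom).symm
    refine Eq.trans (congrArg (τ.app U) (mul_one m).symm) ?_
    refine (Scheme.Modules.Hom.app_smul τ m (1 : Γ(Z, U))).trans ?_
    exact congrArg (m * ·) e1
  refine le_antisymm (fun z hz => ?_) ?_
  · obtain ⟨U₀, hU₀, hzU⟩ := Opens.mem_sSup.1 hz
    obtain ⟨U, hU, hzU⟩ : ∃ U : Z.Opens, IsIso ((Scheme.Modules.restrictFunctor U.ι).map τ) ∧ z ∈ U :=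
      ⟨U₀, hU₀, hzU⟩
    haveI : IsIso ((Scheme.Modules.restrictFunctor U.ι).map τ) := hU
    haveI : IsIso (τ.app (U.ι ''ᵁ ⊤)) :=
      inferInstanceAs (IsIso (((Scheme.Modules.restrictFunctor U.ι).map τ).app ⊤))
    obtain ⟨m, hm⟩ := (ConcreteCategory.bijective_of_isIso (τ.app (U.ι ''ᵁ ⊤))).2 (1 : Γ(Z, U.ι ''ᵁ ⊤))
    have hu : IsUnit (Z.presheaf.map (homOfLE (le_top (a := U.ι ''ᵁ ⊤))).op a) :=
      IsUnit.of_mul_eq_one_right m ((happ _ m).symm.trans hm)
    have hz' : z ∈ U.ι ''ᵁ (⊤ : U.toScheme.Opens) := by rwa [Scheme.Opens.ι_image_top]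
    have h2 : z ∈ Z.basicOpen (Z.presheaf.map (homOfLE (le_top (a := U.ι ''ᵁ ⊤))).op a) := by
      rw [Z.basicOpen_of_isUnit hu]
      exact hz'
    rw [Scheme.basicOpen_res] at h2
    exact h2.2
  · refine le_sSup (show IsIso ((Scheme.Modules.restrictFunctor (Z.basicOpen a).ι).map τ) from ?_)
    rw [Scheme.Modules.Hom.isIso_iff_isIso_app]
    intro V
    refine (ConcreteCategory.isIso_iff_bijective _).2 ?_
    let W := (Z.basicOpen a).ι ''ᵁ V
    have hle : W ≤ Z.basicOpen a := by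
      rintro _ ⟨y, -, rfl⟩
      exact y.2
    have hu : IsUnit (Z.presheaf.map (homOfLE (le_top (a := W))).op a) := by
      have h1 := (Z.toLocallyRingedSpace.toRingedSpace.isUnit_res_basicOpen a).map (Z.presheaf.map (homOfLE hle).op).hom
      convert h1 using 1
      exact (CategoryTheory.congr_fun (Z.presheaf.map_comp _ _) a)
    obtain ⟨u, hu⟩ := hu
    suffices h : Function.Bijective (fun m : Γ(Z, W) => m * (u : Γ(Z, W))) by
      have e : (fun m : Γ(Z, W) => (show Γ(Z, W) from τ.app W m)) = fun m => m * (u : Γ(Z, W)) :=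
        funext fun m => (happ W m).trans (congrArg (m * ·) hu.symm)
      have h' : Function.Bijective (fun m : Γ(Z, W) => (show Γ(Z, W) from τ.app W m)) := by
        rw [e]; exact h
      exact h'
    exact (Units.mulRight u).bijective

/-- A map from a connected universally closed scheme over a field along which an ample module becomes trivial has
one point image. -/
theorem exists_range_eq_singleton {k : Type u} [Field k] (t : Z ⟶ Spec (CommRingCat.of k)) [UniversallyClosed t]
    [ConnectedSpace Z] {P : Scheme.{u}} (ψ : Z ⟶ P) {A : P.Modules} (hA : CohB1.IsAmple A)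
    (e : (Scheme.Modules.pullback ψ).obj A ≅ Coh.structureModule Z) :
    ∃ c : P, Set.range (ψ.base : Z → _) = {c} := by
  obtain ⟨hinv, -, hloc⟩ := hA
  obtain ⟨z₀⟩ := (inferInstance : Nonempty Z)
  obtain ⟨n, s, hs, haff⟩ := hloc (ψ.base z₀)
  let W := CohB1.genLocus _ s
  obtain ⟨e₀⟩ := Ample.nonempty_pullback_structureModule (X := P) ψ
  obtain ⟨e₁⟩ := Ample.nonempty_pullback_tensorPow ψ hinv (n + 1)
  obtain ⟨e₂⟩ : Nonempty (CohB1.tensorPow ((Scheme.Modules.pullback ψ).obj A) (n + 1) ≅ Coh.structureModule Z) := by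
    have hpow : ∀ m : ℕ, Nonempty (CohB1.tensorPow ((Scheme.Modules.pullback ψ).obj A) m ≅ Coh.structureModule Z) := by
      intro m
      induction m with
      | zero => exact ⟨Iso.refl _⟩
      | succ m ih =>
        obtain ⟨f⟩ := ih
        exact ⟨Ample.LineData.tensorModMapIso f e ≪≫ OX.tensorUnitLeftIso (Coh.structureModule Z)⟩
    exact hpow _
  let τ : Coh.structureModule Z ⟶ Coh.structureModule Z :=
    (e₀.inv ≫ (Scheme.Modules.pullback ψ).map s) ≫ (e₁ ≪≫ e₂).hom
  have hpre : ψ ⁻¹ᵁ W = Z.basicOpen (show Γ(Z, ⊤) from τ.app ⊤ (1 : Γ(Z, ⊤))) := by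
    rw [← genLocus_end, Ample.genLocus_comp_iso]
    exact (Ample.genLocus_pullback ψ _ (Ample.isInvertible_tensorPow hinv (n + 1)) s e₀.symm).symm
  have htop : ψ ⁻¹ᵁ W = ⊤ := by
    rcases basicOpen_bot_or_top t (show Γ(Z, ⊤) from τ.app ⊤ (1 : Γ(Z, ⊤))) with h | h
    · exact absurd (show z₀ ∈ ψ ⁻¹ᵁ W from hs) (by rw [hpre, h]; exact id)
    · rw [hpre, h]
  refine ⟨ψ.base z₀, Set.eq_singleton_iff_unique_mem.2 ⟨⟨z₀, rfl⟩, ?_⟩⟩
  rintro _ ⟨z, rfl⟩
  have hzW : ψ.base z ∈ W := (htop.ge (Opens.mem_top z) :)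
  obtain ⟨p, hp⟩ := haff.range_fromSpec.ge hzW
  obtain ⟨p₀, hp₀⟩ := haff.range_fromSpec.ge (show ψ.base z₀ ∈ W from hs)
  rw [← hp, ← hp₀]
  congr 1
  refine PrimeSpectrum.ext (Ideal.ext fun b => ?_)
  have hmem : ∀ (z : Z) (p : PrimeSpectrum Γ(P, W)), haff.fromSpec.base p = ψ.base z →
      (b ∉ p.asIdeal ↔ z ∈ ψ ⁻¹ᵁ P.basicOpen b) := fun z p hp => by
    change _ ↔ ψ.base z ∈ P.basicOpen b
    rw [← hp]
    have := haff.fromSpec_preimage_basicOpen b
    exact (iff_of_eq (congrArg (fun O : (Spec Γ(P, W)).Opens => p ∈ O) this.symm))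
  rcases (show ψ ⁻¹ᵁ P.basicOpen b = ⊥ ∨ ψ ⁻¹ᵁ P.basicOpen b = ⊤ by
    have h1 := basicOpen_bot_or_top t (Z.presheaf.map (homOfLE htop.ge).op (ψ.app W b))
    have h2 : ψ ⁻¹ᵁ P.basicOpen b = Z.basicOpen (Z.presheaf.map (homOfLE htop.ge).op (ψ.app W b)) := by
      rw [Scheme.basicOpen_res, Scheme.preimage_basicOpen]
      exact (inf_eq_right.2 (le_top)).symm
    rw [h2]; exact h1) with h | h
  · have a1 := hmem z p hp
    have a2 := hmem z₀ p₀ hp₀
    rw [h] at a1 a2
    exact iff_of_true (not_not.1 fun hh => (a1.1 hh).elim) (not_not.1 fun hh => (a2.1 hh).elim)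
  · have a1 := hmem z p hp
    have a2 := hmem z₀ p₀ hp₀
    rw [h] at a1 a2
    exact iff_of_false (a1.2 trivial) (a2.2 trivial)

/-- An invertible module is trivial along a map with one point image. -/
theorem nonempty_pullback_iso_of_range_eq_singleton {P : Scheme.{u}} (ψ : Z ⟶ P) {A : P.Modules}
    (hA : PicF.IsInvertible A) {c : P} (hc : Set.range (ψ.base : Z → _) = {c}) :
    Nonempty ((Scheme.Modules.pullback ψ).obj A ≅ Coh.structureModule Z) := by
  obtain ⟨U, hcU, ⟨e⟩⟩ := hA c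
  have hr : Set.range (ψ.base : Z → _) ⊆ Set.range U.ι.base := by
    rw [Scheme.Opens.range_ι, hc]
    exact Set.singleton_subset_iff.2 hcU
  let ψ' := IsOpenImmersion.lift U.ι ψ hr
  have h : ψ' ≫ U.ι = ψ := IsOpenImmersion.lift_fac U.ι ψ hr
  obtain ⟨o⟩ := Ample.nonempty_pullback_structureModule (X := (U : Scheme.{u})) ψ'
  exact ⟨((Scheme.Modules.pullbackCongr h).app A).symm ≪≫ ((Scheme.Modules.pullbackComp ψ' U.ι).app A).symm ≪≫
    (Scheme.Modules.pullback ψ').mapIso (((Scheme.Modules.restrictFunctorIsoPullback U.ι).app A).symm ≪≫ e) ≪≫ o⟩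

/-- `O(1)` is ample on projective space over an affine scheme. -/
theorem isAmple_twistOver (n : ℕ) (S : Scheme.{u}) [IsAffine S] :
    CohB1.IsAmple (Twist.twistOver n S 1) := by
  haveI : IsProper (KRR.pr n S) := Chow.isProper_toBase n S
  haveI : CompactSpace (KRR.PY n S) := QuasiCompact.compactSpace_of_compactSpace (KRR.pr n S)
  exact Ample.isAmple_of_isRelVeryAmplePn (KRR.pr n S) ⟨n, 𝟙 _, inferInstance, Category.id_comp _,
    ⟨((Scheme.Modules.pullbackId (KRR.PY n S)).app _).symm⟩⟩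

end GrothLib.ConstFib9
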